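import Groth.Agent.BlowUp.Glue
import Mathlib.AlgebraicGeometry.ProjectiveSpectrum.Proper

/-!
# A blow-up in an ideal sheaf of finite type is proper
-/

set_option autoImplicit false

universe u

open CategoryTheory CategoryTheory.Limits AlgebraicGeometry TopologicalSpace
open Groth.Agent.IdealSh Groth.Agent.BlowUp

namespace Groth.Agent.BlowUpProper.Basic

/-- The degree zero part of the Rees algebra is the base. -/
lemma bijective_algebraMap_deg_zero {A : Type u} [CommRing A] (I : Ideal A) :
    Function.Bijective (algebraMap A (Rees.deg (reesAlgebra I) 0)) := by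
  have hco : ∀ a : A, (((algebraMap A (Rees.deg (reesAlgebra I) 0) a : reesAlgebra I)) :
      Polynomial A) = Polynomial.C a := fun a => rfl
  constructor
  · intro a b h
    have := congrArg (fun z : Rees.deg (reesAlgebra I) 0 => ((z : reesAlgebra I) : Polynomial A)) h
    simp only [hco] at this
    exact Polynomial.C_injective this
  · rintro ⟨f, hf⟩
    refine ⟨(f : Polynomial A).coeff 0, Subtype.ext (Subtype.ext ?_)⟩
    rw [hco]
    refine Polynomial.ext fun m => ?_
    rw [Polynomial.coeff_C]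
    split_ifs with hm
    · rw [hm]
    · exact (((Rees.mem_deg_iff _ 0 f).1 hf) m hm).symm

/-- `Proj` of the Rees algebra of a finitely generated ideal is proper over the base. -/
lemma isProper_proj {A : Type u} [CommRing A] {I : Ideal A} (hI : I.FG) :
    IsProper (Proj (Rees.deg (reesAlgebra I)) ↘ Spec (CommRingCat.of A)) := by
  have : Algebra.FiniteType A (reesAlgebra I) := ⟨(reesAlgebra I).fg_top.mpr (reesAlgebra.fg hI)⟩
  have : IsScalarTower A (Rees.deg (reesAlgebra I) 0) (reesAlgebra I) :=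
    IsScalarTower.of_algebraMap_eq (R := A) (S := Rees.deg (reesAlgebra I) 0)
      (A := reesAlgebra I) fun a => rfl
  have : Algebra.FiniteType (Rees.deg (reesAlgebra I) 0) (reesAlgebra I) :=
    Algebra.FiniteType.of_restrictScalars_finiteType A _ _
  let φ : CommRingCat.of A ⟶ CommRingCat.of (Rees.deg (reesAlgebra I) 0) :=
    CommRingCat.ofHom (algebraMap A (Rees.deg (reesAlgebra I) 0))
  have : IsIso φ := (ConcreteCategory.isIso_iff_bijective φ).2 (bijective_algebraMap_deg_zero I)
  show IsProper (Proj.toSpecZero (Rees.deg (reesAlgebra I)) ≫ Spec.map φ)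
  infer_instance

variable {X X' : Scheme.{u}}

/-- A blow-up in an ideal sheaf which is finitely generated near every point is proper. -/
theorem isProper_of_fg {b : X' ⟶ X} {𝓘 : X.IdealSheafData} (hb : BlowUp.IsBlowUp b 𝓘)
    (hI : ∀ x : X, ∃ U : X.affineOpens, x ∈ U.1 ∧ (𝓘.ideal U).FG) : IsProper b := by
  choose U hxU hfg using hI
  have hsup : ⨆ x, (U x).1 = ⊤ := top_unique fun x _ => Opens.mem_iSup.2 ⟨x, hxU x⟩
  refine (IsZariskiLocalAtTarget.iff_of_iSup_eq_top (P := @IsProper) _ hsup).2 fun x => ?_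
  set A := Γ(X, (U x).1)
  let ε := (U x).2.isoSpec
  let 𝓙 := (𝓘.comap (U x).1.ι).comap ε.inv
  obtain ⟨P, p, hp⟩ : ∃ (P : Scheme.{u}) (p : P ⟶ Spec A), BlowUp.IsBlowUp p 𝓙 ∧ IsProper p := by
    let E := Scheme.ΓSpecIso A
    let I : Ideal A := (𝓙.ideal ⟨⊤, isAffineOpen_top _⟩).map E.hom.hom
    have h1 : I.map E.inv.hom = 𝓙.ideal ⟨⊤, isAffineOpen_top _⟩ := by
      refine (Ideal.map_map E.hom.hom E.inv.hom).trans ?_
      rw [← CommRingCat.hom_comp, Iso.hom_inv_id]
      exact Ideal.map_id _
    have e : Existence.centre I = 𝓙 := by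
      refine Scheme.IdealSheafData.ext_of_isAffine ?_
      rw [Existence.centre, Scheme.IdealSheafData.ofIdealTop_ideal]
      refine Eq.trans ?_ h1
      refine (congrArg (fun φ => Ideal.map φ (I.map E.inv.hom)) ?_).trans (Ideal.map_id _)
      change ((Spec A).presheaf.map (homOfLE _).op).hom = _
      rw [Subsingleton.elim (homOfLE _).op (𝟙 _), CategoryTheory.Functor.map_id]
      rfl
    refine ⟨_, _, e ▸ Existence.isBlowUp_proj I, isProper_proj ?_⟩
    refine Ideal.FG.map ?_ _
    show (((𝓘.comap (U x).1.ι).comap ε.inv).ideal ⟨⊤, isAffineOpen_top _⟩).FG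
    rw [← Scheme.IdealSheafData.comap_comp, Comap.ideal_comap _ _ (U x) ⟨⊤, isAffineOpen_top _⟩ (by
      intro z _
      exact (ε.inv z).2)]
    exact Ideal.FG.map (hfg x) _
  obtain ⟨hp, hproper⟩ := hp
  obtain ⟨e, he⟩ := BlowUp.Basic.exists_iso (Local.comp_iso ε.symm hp) (Local.restrict hb (U x).1)
  rw [← he]
  infer_instance

theorem isProper {b : X' ⟶ X} {𝓘 : X.IdealSheafData} (hb : BlowUp.IsBlowUp b 𝓘)
    (hI : BlowUp.IsFiniteTypeIdeal 𝓘) : IsProper b :=
  isProper_of_fg hb fun x => by
    obtain ⟨U, hU, -⟩ := Comap.exists_affine_le x ⊤ trivial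
    exact ⟨U, hU, hI U⟩

end Groth.Agent.BlowUpProper.Basic
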